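import Mathlib.RingTheory.ZariskisMainTheorem
import Mathlib.RingTheory.Finiteness.ModuleFinitePresentation
import Mathlib.RingTheory.Localization.BaseChange
import Mathlib.RingTheory.Localization.Away.AdjoinRoot
import Mathlib.RingTheory.LocalRing.ResidueField.Fiber

/-! A finitely presented finite model of a quasi-finite algebra of finite presentation. -/

set_option autoImplicit false
universe u

open scoped TensorProduct

namespace UFinLib

variable (A B : Type u) [CommRing A] [CommRing B] [Algebra A B]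

/-- A finite finitely presented `A`-algebra `C` mapping to `B` which becomes `B` after inverting
finitely many elements generating the unit ideal of `B`. -/
structure Model where
  C : Type u
  [commRing : CommRing C]
  [algebra : Algebra A C]
  [finite : Module.Finite A C]
  [fp : Module.FinitePresentation A C]
  φ : C →ₐ[A] B
  s : Finset C
  span_eq_top : Ideal.span (φ '' s) = ⊤
  surj : ∀ g ∈ s, ∀ b : B, ∃ (n : ℕ) (c : C), φ c = φ g ^ n * b
  inj : ∀ g ∈ s, ∀ c : C, φ c = 0 → ∃ n : ℕ, g ^ n * c = 0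

attribute [instance] Model.commRing Model.algebra Model.finite Model.fp

/-- A subalgebra finite over `A` in which `B` is obtained by inverting finitely many elements. -/
theorem exists_finite_subalgebra [Algebra.FiniteType A B] [Algebra.QuasiFinite A B] :
    ∃ (S : Subalgebra A B) (t : Finset B), Module.Finite A S ∧ (t : Set B) ⊆ S ∧
      Ideal.span (t : Set B) = ⊤ ∧ ∀ r ∈ t, ∀ b : B, ∃ n : ℕ, r ^ n * b ∈ S := by
  classical
  obtain ⟨gen, hgen⟩ := Algebra.FiniteType.out (R := A) (A := B)
  have hloc : ∀ p : PrimeSpectrum B, ∃ r : B, r ∉ p.asIdeal ∧ IsIntegral A r ∧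
      ∀ x, ∃ m : ℕ, IsIntegral A (r ^ m * x) := fun p =>
    Algebra.zariskisMainProperty_iff.mp (Algebra.ZariskisMainProperty.of_finiteType p.asIdeal)
  choose r hr hri hrx using hloc
  obtain ⟨ps, hps⟩ : ∃ ps : Finset (PrimeSpectrum B), Ideal.span (r '' ps) = ⊤ := by
    have h : Ideal.span (Set.range r) = ⊤ := by
      by_contra h
      obtain ⟨m, hm, hle⟩ := Ideal.exists_le_maximal _ h
      exact hr ⟨m, hm.isPrime⟩ (hle (Ideal.subset_span ⟨_, rfl⟩))
    obtain ⟨T, hT, hT'⟩ := (Ideal.span_eq_top_iff_finite _).mp h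
    choose pr hpr using fun x : T => hT x.2
    refine ⟨Finset.univ.image pr, top_le_iff.mp (hT' ▸ Ideal.span_mono fun x hx => ?_)⟩
    exact ⟨pr ⟨x, hx⟩, Finset.mem_coe.mpr (Finset.mem_image_of_mem pr (Finset.mem_univ _)),
      hpr ⟨x, hx⟩⟩
  choose m hm using hrx
  let T : Set B := r '' ps ∪ (fun q : PrimeSpectrum B × B => r q.1 ^ m q.1 q.2 * q.2) '' (ps ×ˢ gen)
  have hTfin : T.Finite :=
    (ps.finite_toSet.image _).union ((ps.finite_toSet.prod gen.finite_toSet).image _)
  let S := Algebra.adjoin A T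
  have hSfin : Module.Finite A S := ⟨(Submodule.fg_top _).mpr (fg_adjoin_of_finite hTfin (by
    rintro x (⟨p, -, rfl⟩ | ⟨q, -, rfl⟩)
    · exact hri p
    · exact hm _ _))⟩
  refine ⟨S, ps.image r, hSfin, ?_, by rwa [Finset.coe_image], ?_⟩
  · intro x hx
    rw [Finset.coe_image] at hx
    exact Algebra.subset_adjoin (Or.inl hx)
  · intro x hx b
    obtain ⟨p, hp, rfl⟩ := Finset.mem_image.mp hx
    have hb : b ∈ Algebra.adjoin A (gen : Set B) := by rw [hgen]; trivial
    induction hb using Algebra.adjoin_induction with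
    | mem y hy => exact ⟨m p y, Algebra.subset_adjoin (Or.inr ⟨(p, y), ⟨hp, hy⟩, rfl⟩)⟩
    | algebraMap a => exact ⟨0, by simpa using S.algebraMap_mem a⟩
    | add y z _ _ hy hz =>
      obtain ⟨i, hi⟩ := hy
      obtain ⟨j, hj⟩ := hz
      have hrS : r p ∈ S := Algebra.subset_adjoin (Or.inl ⟨p, hp, rfl⟩)
      refine ⟨i + j, ?_⟩
      rw [show r p ^ (i + j) * (y + z) = r p ^ j * (r p ^ i * y) + r p ^ i * (r p ^ j * z) by ring]
      exact add_mem (mul_mem (pow_mem hrS _) hi) (mul_mem (pow_mem hrS _) hj)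
    | mul y z _ _ hy hz =>
      obtain ⟨i, hi⟩ := hy
      obtain ⟨j, hj⟩ := hz
      refine ⟨i + j, ?_⟩
      rw [show r p ^ (i + j) * (y * z) = (r p ^ i * y) * (r p ^ j * z) by ring]
      exact mul_mem hi hj

/-- Quasi-finite algebras of finite presentation have finitely presented finite models. -/
theorem nonempty_model [Algebra.FinitePresentation A B] [Algebra.QuasiFinite A B] :
    Nonempty (Model A B) := by
  classical
  obtain ⟨S, t, hS, htS, htop, hsurj⟩ := exists_finite_subalgebra A B
  obtain ⟨C0, _, _, _, _, _, f, hf⟩ := Module.Finite.exists_free_surjective A S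
  let φ0 : C0 →ₐ[A] B := S.val.comp f
  choose g hg using fun r : t => hf ⟨r.1, htS r.2⟩
  have hg' : ∀ r : t, φ0 (g r) = r.1 := fun r => congrArg Subtype.val (hg r)
  have hsurj0 : ∀ (r : t) (b : B), ∃ (n : ℕ) (c : C0), φ0 c = φ0 (g r) ^ n * b := by
    intro r b
    obtain ⟨n, hn⟩ := hsurj r.1 r.2 b
    obtain ⟨c, hc⟩ := hf ⟨_, hn⟩
    exact ⟨n, c, by rw [hg']; exact congrArg Subtype.val hc⟩
  -- finitely many relations which suffice after inverting each of the elements
  have hker : ∀ r : t, ∃ K : Finset C0, (∀ k ∈ K, φ0 k = 0) ∧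
      ∀ c, φ0 c = 0 → ∃ n : ℕ, g r ^ n * c ∈ Ideal.span (K : Set C0) := by
    intro r
    let L := Localization.Away (g r)
    let M := Localization.Away (φ0 (g r))
    let θ : L →ₐ[A] M := IsLocalization.liftAlgHom (M := Submonoid.powers (g r))
      (f := (IsScalarTower.toAlgHom A B M).comp φ0) (by
        rintro ⟨_, n, rfl⟩
        simp only [AlgHom.comp_apply, IsScalarTower.coe_toAlgHom', map_pow]
        exact (IsLocalization.Away.algebraMap_isUnit (φ0 (g r))).pow n)
    have hθ : ∀ c, θ (algebraMap C0 L c) = algebraMap B M (φ0 c) := fun c =>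
      IsLocalization.lift_eq _ c
    have : Algebra.FinitePresentation C0 L := IsLocalization.Away.finitePresentation (g r)
    have : Algebra.FinitePresentation A L := .trans A C0 L
    have : Algebra.FinitePresentation B M := IsLocalization.Away.finitePresentation (φ0 (g r))
    have : Algebra.FinitePresentation A M := .trans A B M
    have hθs : Function.Surjective θ := by
      intro x
      obtain ⟨b, ⟨_, k, rfl⟩, rfl⟩ := IsLocalization.exists_mk'_eq (Submonoid.powers (φ0 (g r))) x
      obtain ⟨n, c, hc⟩ := hsurj0 r b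
      refine ⟨IsLocalization.mk' L c (⟨g r ^ (n + k), n + k, rfl⟩ : Submonoid.powers (g r)), ?_⟩
      rw [IsLocalization.eq_mk'_iff_mul_eq]
      apply ((IsLocalization.Away.algebraMap_isUnit (S := M) (φ0 (g r))).pow n).mul_left_cancel
      have h1 := congrArg θ (IsLocalization.mk'_spec L c
        (⟨g r ^ (n + k), n + k, rfl⟩ : Submonoid.powers (g r)))
      rw [map_mul, hθ, hθ, hc, map_mul, map_pow, map_pow, map_pow] at h1
      simp only [map_pow]
      linear_combination h1
    obtain ⟨G, hG⟩ := Algebra.FinitePresentation.ker_fG_of_surjective θ hθs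
    have hnum : ∀ x ∈ G, ∃ k : C0, φ0 k = 0 ∧ x ∈ Ideal.span {algebraMap C0 L k} := by
      intro x hx
      have hx0 : θ x = 0 := by
        have : x ∈ RingHom.ker θ.toRingHom := hG ▸ Ideal.subset_span hx
        exact this
      obtain ⟨⟨c, ⟨_, n, rfl⟩⟩, hc⟩ := IsLocalization.surj (Submonoid.powers (g r)) x
      have h1 : algebraMap B M (φ0 c) = 0 := by
        rw [← hθ, ← hc, map_mul, hx0, zero_mul]
      obtain ⟨⟨_, i, rfl⟩, hi⟩ :=
        (IsLocalization.map_eq_zero_iff (Submonoid.powers (φ0 (g r))) M _).mp h1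
      refine ⟨g r ^ i * c, by rw [map_mul, map_pow]; exact hi, ?_⟩
      obtain ⟨u, hu⟩ := ((IsLocalization.Away.algebraMap_isUnit (S := L) (g r)).pow (n + i))
      refine Ideal.mem_span_singleton'.mpr ⟨(u⁻¹ : Lˣ), ?_⟩
      have h2 : algebraMap C0 L (g r ^ i * c) = u * x := by
        rw [map_mul, ← hc, hu]
        simp only [map_pow, pow_add]
        ring
      rw [h2, ← mul_assoc, Units.inv_mul, one_mul]
    choose k hk0 hk using hnum
    refine ⟨G.attach.image fun x => k x.1 x.2, ?_, ?_⟩
    · intro c hc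
      obtain ⟨x, -, rfl⟩ := Finset.mem_image.mp hc
      exact hk0 _ _
    · intro c hc
      have h1 : algebraMap C0 L c ∈ RingHom.ker θ.toRingHom := by
        show θ (algebraMap C0 L c) = 0
        rw [hθ, hc, map_zero]
      have h2 : RingHom.ker θ.toRingHom ≤
          (Ideal.span ((G.attach.image fun x => k x.1 x.2 : Finset C0) : Set C0)).map
            (algebraMap C0 L) := by
        rw [← hG, Ideal.span_le]
        intro x hx
        refine SetLike.mem_coe.mpr (Ideal.span_le.mpr ?_ (hk x hx))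
        rintro _ rfl
        exact Ideal.mem_map_of_mem _ (Ideal.subset_span
          (Finset.mem_coe.mpr (Finset.mem_image.mpr ⟨⟨x, hx⟩, Finset.mem_attach _ _, rfl⟩)))
      obtain ⟨_, ⟨n, rfl⟩, hn⟩ :=
        (IsLocalization.algebraMap_mem_map_algebraMap_iff (Submonoid.powers (g r)) L _ _).mp (h2 h1)
      exact ⟨n, hn⟩
  choose K hK0 hK using hker
  let J : Ideal C0 := Ideal.span (Finset.univ.biUnion K : Finset C0)
  have hJ : ∀ x ∈ J, φ0 x = 0 := by
    intro x hx
    have : J ≤ RingHom.ker φ0.toRingHom := Ideal.span_le.mpr fun y hy => by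
      obtain ⟨r, -, hr⟩ := Finset.mem_biUnion.mp (Finset.mem_coe.mp hy)
      exact hK0 r y hr
    exact this hx
  let φ : C0 ⧸ J →ₐ[A] B := Ideal.Quotient.liftₐ J φ0 hJ
  have hfin : Module.Finite A (C0 ⧸ J) := Module.Finite.of_surjective
    (Ideal.Quotient.mkₐ A J).toLinearMap Ideal.Quotient.mk_surjective
  have hfpa : Algebra.FinitePresentation A (C0 ⧸ J) := by
    have : Algebra.FinitePresentation A C0 := inferInstance
    exact Algebra.FinitePresentation.quotient ⟨_, rfl⟩
  have hfp : Module.FinitePresentation A (C0 ⧸ J) :=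
    Module.FinitePresentation.of_finite_of_finitePresentation A (C0 ⧸ J)
  refine ⟨{ C := C0 ⧸ J, φ := φ, s := Finset.univ.image fun r => Ideal.Quotient.mk J (g r),
            span_eq_top := ?_, surj := ?_, inj := ?_ }⟩
  · rw [← top_le_iff, ← htop, Ideal.span_le]
    intro r hr
    exact Ideal.subset_span ⟨Ideal.Quotient.mk J (g ⟨r, hr⟩),
      Finset.mem_coe.mpr (Finset.mem_image_of_mem _ (Finset.mem_univ _)), hg' ⟨r, hr⟩⟩
  · intro _ hx b
    obtain ⟨r, -, rfl⟩ := Finset.mem_image.mp hx
    obtain ⟨n, c, hc⟩ := hsurj0 r b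
    exact ⟨n, Ideal.Quotient.mk J c, hc⟩
  · intro _ hx c hc
    obtain ⟨r, -, rfl⟩ := Finset.mem_image.mp hx
    obtain ⟨c, rfl⟩ := Ideal.Quotient.mk_surjective c
    obtain ⟨n, hn⟩ := hK r c hc
    refine ⟨n, ?_⟩
    rw [← map_pow, ← map_mul, Ideal.Quotient.eq_zero_iff_mem]
    exact Ideal.span_mono
      (fun y hy => Finset.mem_coe.mpr (Finset.mem_biUnion.mpr ⟨r, Finset.mem_univ _, hy⟩)) hn

end UFinLib
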