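import Groth.Agent.UFinLib.Universal
import Mathlib.AlgebraicGeometry.Morphisms.Finite
import Mathlib.AlgebraicGeometry.Morphisms.QuasiFinite
import Mathlib.AlgebraicGeometry.Morphisms.FinitePresentation
import Mathlib.AlgebraicGeometry.Pullbacks

/-! The universal finite open of a quasi-finite morphism of affine schemes. -/

set_option autoImplicit false
universe u

open CategoryTheory CategoryTheory.Limits AlgebraicGeometry TopologicalSpace
open scoped TensorProduct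

namespace UFinLib

variable {X Y : Scheme.{u}} (f : X ⟶ Y) [IsAffine X] [IsAffine Y]

section

variable [Algebra Γ(Y, ⊤) Γ(X, ⊤)] (hB : algebraMap Γ(Y, ⊤) Γ(X, ⊤) = f.appTop.hom)
  {Y' : Scheme.{u}} (b : Y' ⟶ Y) (A' : Type u) [CommRing A'] [Algebra Γ(Y, ⊤) A']
  (κ : Y' ≅ Spec (.of A'))
  (hκ : κ.hom ≫ Spec.map (CommRingCat.ofHom (algebraMap Γ(Y, ⊤) A')) ≫ Y.isoSpec.inv = b)

include hB hκ in
theorem isPullback_tensor : IsPullback
    (Spec.map (CommRingCat.ofHom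
      (Algebra.TensorProduct.includeLeftRingHom : Γ(X, ⊤) →+* Γ(X, ⊤) ⊗[Γ(Y, ⊤)] A')) ≫
      X.isoSpec.inv)
    (Spec.map (CommRingCat.ofHom
      (Algebra.TensorProduct.includeRight : A' →ₐ[Γ(Y, ⊤)] Γ(X, ⊤) ⊗[Γ(Y, ⊤)] A').toRingHom) ≫
      κ.inv) f b := by
  refine (isPullback_SpecMap_of_isPushout _ _ _ _
    (CommRingCat.isPushout_tensorProduct Γ(Y, ⊤) Γ(X, ⊤) A')).of_iso (Iso.refl _) X.isoSpec.symm
    κ.symm Y.isoSpec.symm ?_ ?_ ?_ ?_
  · simp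
  · simp
  · rw [hB]
    exact Scheme.isoSpec_inv_naturality f
  · simp [← hκ]

/-- Transport of `pullback f b` to the spectrum of the tensor product. -/
noncomputable def tensorIso : Spec (.of (Γ(X, ⊤) ⊗[Γ(Y, ⊤)] A')) ≅ pullback f b :=
  (isPullback_tensor f hB b A' κ hκ).isoPullback

@[reassoc]
theorem tensorIso_fst : (tensorIso f hB b A' κ hκ).hom ≫ pullback.fst f b =
    Spec.map (CommRingCat.ofHom Algebra.TensorProduct.includeLeftRingHom) ≫ X.isoSpec.inv :=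
  (isPullback_tensor f hB b A' κ hκ).isoPullback_hom_fst

@[reassoc]
theorem tensorIso_snd : (tensorIso f hB b A' κ hκ).hom ≫ pullback.snd f b =
    Spec.map (CommRingCat.ofHom
      (Algebra.TensorProduct.includeRight : A' →ₐ[Γ(Y, ⊤)] Γ(X, ⊤) ⊗[Γ(Y, ⊤)] A').toRingHom) ≫
      κ.inv :=
  (isPullback_tensor f hB b A' κ hκ).isoPullback_hom_snd

theorem isFinite_iff_preimage (U' : (pullback f b).Opens) :
    IsFinite (U'.ι ≫ pullback.snd f b) ↔
      IsFinite (((tensorIso f hB b A' κ hκ).hom ⁻¹ᵁ U').ι ≫ Spec.map (CommRingCat.ofHom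
        (Algebra.TensorProduct.includeRight : A' →ₐ[Γ(Y, ⊤)] Γ(X, ⊤) ⊗[Γ(Y, ⊤)] A').toRingHom)) := by
  have key : ((tensorIso f hB b A' κ hκ).hom ⁻¹ᵁ U').ι ≫ Spec.map (CommRingCat.ofHom
      (Algebra.TensorProduct.includeRight : A' →ₐ[Γ(Y, ⊤)] Γ(X, ⊤) ⊗[Γ(Y, ⊤)] A').toRingHom) =
      ((tensorIso f hB b A' κ hκ).hom ∣_ U') ≫ (U'.ι ≫ pullback.snd f b) ≫ κ.hom := by
    rw [Category.assoc, morphismRestrict_ι_assoc, tensorIso_snd_assoc, Iso.inv_hom_id,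
      Category.comp_id]
  rw [key, MorphismProperty.cancel_left_of_respectsIso (P := @IsFinite)
    ((tensorIso f hB b A' κ hκ).hom ∣_ U'),
    MorphismProperty.cancel_right_of_respectsIso (P := @IsFinite) _ κ.hom]

theorem isFinite_basicOpen_iff (ε : Γ(X, ⊤) ⊗[Γ(Y, ⊤)] A') :
    IsFinite ((show (Spec (.of (Γ(X, ⊤) ⊗[Γ(Y, ⊤)] A'))).Opens from
      PrimeSpectrum.basicOpen ε).ι ≫ Spec.map (CommRingCat.ofHom
        (Algebra.TensorProduct.includeRight : A' →ₐ[Γ(Y, ⊤)] Γ(X, ⊤) ⊗[Γ(Y, ⊤)] A').toRingHom)) ↔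
      FiniteAway Γ(X, ⊤) A' ε := by
  rw [← basicOpenIsoSpecAway_hom_SpecMap (R := .of (Γ(X, ⊤) ⊗[Γ(Y, ⊤)] A')) ε, Category.assoc,
    MorphismProperty.cancel_left_of_respectsIso (P := @IsFinite), ← Spec.map_comp,
    IsFinite.SpecMap_iff]
  rfl

theorem exists_idempotent_of_isFinite (U' : (pullback f b).Opens)
    (hU' : IsFinite (U'.ι ≫ pullback.snd f b)) :
    ∃ ε : Γ(X, ⊤) ⊗[Γ(Y, ⊤)] A', IsIdempotentElem ε ∧ FiniteAway Γ(X, ⊤) A' ε ∧
      (tensorIso f hB b A' κ hκ).hom ⁻¹ᵁ U' = PrimeSpectrum.basicOpen ε := by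
  rw [isFinite_iff_preimage f hB b A' κ hκ] at hU'
  generalize (tensorIso f hB b A' κ hκ).hom ⁻¹ᵁ U' = V at hU' ⊢
  have hclosed : IsFinite V.ι := MorphismProperty.of_postcomp @IsFinite V.ι
    (W' := @IsSeparated) _ inferInstance hU'
  have hc : IsClosed (V : Set (Spec (.of (Γ(X, ⊤) ⊗[Γ(Y, ⊤)] A')))) := by
    rw [← Scheme.Opens.range_ι V]
    exact V.ι.isClosedMap.isClosed_range
  obtain ⟨ε, hε, hV⟩ := PrimeSpectrum.exists_idempotent_basicOpen_eq_of_isClopen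
    (s := ((SetLike.coe V : Set (Spec (.of (Γ(X, ⊤) ⊗[Γ(Y, ⊤)] A')))) :
      Set (PrimeSpectrum (Γ(X, ⊤) ⊗[Γ(Y, ⊤)] A')))) ⟨hc, V.isOpen⟩
  obtain rfl : V = PrimeSpectrum.basicOpen ε := TopologicalSpace.Opens.ext hV
  exact ⟨ε, hε, (isFinite_basicOpen_iff A' ε).mp hU', rfl⟩

end

theorem exists_universal_open [LocallyQuasiFinite f] [LocallyOfFinitePresentation f] :
    ∃ (Yu : Scheme.{u}) (a : Yu ⟶ Y) (Uu : (pullback f a).Opens), IsAffine Yu ∧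
      LocallyOfFinitePresentation a ∧ IsFinite (Uu.ι ≫ pullback.snd f a) ∧
      ∀ (Y' : Scheme.{u}) (b : Y' ⟶ Y) (U' : (pullback f b).Opens), IsAffine Y' →
        IsFinite (U'.ι ≫ pullback.snd f b) → ∃ (c : Y' ⟶ Yu) (hc : c ≫ a = b),
          (pullback.map f b f a (𝟙 X) c (𝟙 Y) ((Category.comp_id f).trans (Category.id_comp f).symm)
            ((Category.comp_id b).trans hc.symm)) ⁻¹ᵁ Uu = U' := by
  let alg : Algebra Γ(Y, ⊤) Γ(X, ⊤) := f.appTop.hom.toAlgebra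
  have hB : algebraMap Γ(Y, ⊤) Γ(X, ⊤) = f.appTop.hom := rfl
  have : Algebra.FinitePresentation Γ(Y, ⊤) Γ(X, ⊤) :=
    HasRingHomProperty.appTop @LocallyOfFinitePresentation f inferInstance
  have : Algebra.QuasiFinite Γ(Y, ⊤) Γ(X, ⊤) :=
    HasRingHomProperty.appTop @LocallyQuasiFinite f inferInstance
  obtain ⟨R, _, _, εu, hR, hεu, huniv⟩ := exists_universal Γ(Y, ⊤) Γ(X, ⊤)
  let a : Spec (.of R) ⟶ Y :=
    Spec.map (CommRingCat.ofHom (algebraMap Γ(Y, ⊤) R)) ≫ Y.isoSpec.inv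
  have ha : (Iso.refl (Spec (.of R))).hom ≫ Spec.map (CommRingCat.ofHom (algebraMap Γ(Y, ⊤) R)) ≫
      Y.isoSpec.inv = a := Category.id_comp _
  let eu := tensorIso f hB a R (Iso.refl _) ha
  let Uu : (pullback f a).Opens := eu.inv ⁻¹ᵁ PrimeSpectrum.basicOpen εu
  have hUu : eu.hom ⁻¹ᵁ Uu = PrimeSpectrum.basicOpen εu := by
    rw [← Scheme.Hom.comp_preimage, Iso.hom_inv_id, Scheme.Hom.id_preimage]
  refine ⟨Spec (.of R), a, Uu, inferInstance, ?_, ?_, ?_⟩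
  · have : LocallyOfFinitePresentation (Spec.map (CommRingCat.ofHom (algebraMap Γ(Y, ⊤) R))) :=
      (HasRingHomProperty.Spec_iff (P := @LocallyOfFinitePresentation)).mpr
        (RingHom.finitePresentation_algebraMap.mpr hR)
    exact MorphismProperty.comp_mem @LocallyOfFinitePresentation _ _ this inferInstance
  · rw [isFinite_iff_preimage f hB a R (Iso.refl _) ha, hUu, isFinite_basicOpen_iff]
    exact hεu
  intro Y' b U' hY' hU'
  let _ : Algebra Γ(Y, ⊤) Γ(Y', ⊤) := b.appTop.hom.toAlgebra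
  have hb : Y'.isoSpec.hom ≫ Spec.map (CommRingCat.ofHom (algebraMap Γ(Y, ⊤) Γ(Y', ⊤))) ≫
      Y.isoSpec.inv = b := by
    change Y'.isoSpec.hom ≫ Spec.map b.appTop ≫ Y.isoSpec.inv = b
    rw [Scheme.isoSpec_inv_naturality, Iso.hom_inv_id_assoc]
  obtain ⟨ε, hε, hfin, hU⟩ :=
    exists_idempotent_of_isFinite f hB b Γ(Y', ⊤) Y'.isoSpec hb U' hU'
  obtain ⟨σ, hσ⟩ := huniv Γ(Y', ⊤) ε hε hfin
  let c : Y' ⟶ Spec (.of R) := Y'.isoSpec.hom ≫ Spec.map (CommRingCat.ofHom σ.toRingHom)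
  have hc : c ≫ a = b := by
    refine Eq.trans ?_ hb
    simp only [c, a, Category.assoc, ← Spec.map_comp_assoc, ← CommRingCat.ofHom_comp,
      AlgHom.toRingHom_eq_coe]
    congr 4
    exact RingHom.ext σ.commutes
  refine ⟨c, hc, ?_⟩
  let eb := tensorIso f hB b Γ(Y', ⊤) Y'.isoSpec hb
  let m : Γ(X, ⊤) ⊗[Γ(Y, ⊤)] R →ₐ[Γ(Y, ⊤)] Γ(X, ⊤) ⊗[Γ(Y, ⊤)] Γ(Y', ⊤) :=
    Algebra.TensorProduct.map (AlgHom.id Γ(Y, ⊤) Γ(X, ⊤)) σ
  have hsq : eb.hom ≫ pullback.map f b f a (𝟙 X) c (𝟙 Y)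
      ((Category.comp_id f).trans (Category.id_comp f).symm)
      ((Category.comp_id b).trans hc.symm) =
      Spec.map (CommRingCat.ofHom m.toRingHom) ≫ eu.hom := by
    apply pullback.hom_ext
    · simp only [Category.assoc, pullback.lift_fst, eu, eb, tensorIso_fst,
        tensorIso_fst_assoc, ← Spec.map_comp_assoc, ← CommRingCat.ofHom_comp, Category.comp_id]
      congr 3
      ext x
      simp [m]
    · simp only [Category.assoc, pullback.lift_snd, eu, eb, tensorIso_snd,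
        tensorIso_snd_assoc, ← Spec.map_comp_assoc, ← CommRingCat.ofHom_comp, c,
        Iso.inv_hom_id_assoc, Iso.refl_inv, Category.comp_id, ← Spec.map_comp]
      rfl
  apply TopologicalSpace.Opens.ext
  apply Set.preimage_injective.mpr eb.hom.surjective
  apply (congrArg (SetLike.coe (A := (Spec (.of (Γ(X, ⊤) ⊗[Γ(Y, ⊤)] Γ(Y', ⊤)))).Opens)) · :
    (eb.hom ≫ pullback.map f b f a (𝟙 X) c (𝟙 Y) _ _) ⁻¹ᵁ Uu = eb.hom ⁻¹ᵁ U' → _)
  rw [hsq, Scheme.Hom.comp_preimage, hUu, hU, ← hσ]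
  rfl

end UFinLib
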