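import Groth.Agent.UFinLib.Model
import Mathlib.LinearAlgebra.TensorProduct.Vanishing
import Mathlib.RingTheory.FiniteStability
import Mathlib.RingTheory.Ideal.GoingUp
import Mathlib.RingTheory.TensorProduct.Maps

/-! The universal idempotent cutting out a finite piece of a quasi-finite algebra. -/

set_option autoImplicit false
universe u

open scoped TensorProduct

namespace UFinLib

variable {A B C : Type u} [CommRing A] [CommRing B] [CommRing C] [Algebra A B] [Algebra A C]

theorem exists_coords {A' : Type u} [CommRing A'] [Algebra A A'] {N : ℕ} {w : Fin N → C}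
    (hw : Submodule.span A (Set.range w) = ⊤) (z : C ⊗[A] A') :
    ∃ a : Fin N → A', z = ∑ i, w i ⊗ₜ a i := by
  induction z with
  | zero => exact ⟨0, by simp⟩
  | add x y hx hy =>
    obtain ⟨a, rfl⟩ := hx
    obtain ⟨b, rfl⟩ := hy
    exact ⟨a + b, by simp [TensorProduct.tmul_add, Finset.sum_add_distrib]⟩
  | tmul c a =>
    obtain ⟨t, rfl⟩ := (Submodule.mem_span_range_iff_exists_fun A).mp
      (hw ▸ Submodule.mem_top : c ∈ Submodule.span A (Set.range w))
    exact ⟨fun i => t i • a, by simp [TensorProduct.sum_tmul, TensorProduct.smul_tmul]⟩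

/-- A finitely presented condition for an element of `C ⊗ R₀` to vanish. -/
theorem exists_kill [Module.Finite A C] [Module.FinitePresentation A C] (R0 : Type u) [CommRing R0]
    [Algebra A R0] [Algebra.FinitePresentation A R0] (x : C ⊗[A] R0) :
    ∃ (R1 : Type u) (_ : CommRing R1) (_ : Algebra A R1) (π : R0 →ₐ[A] R1),
      Algebra.FinitePresentation A R1 ∧ Algebra.TensorProduct.map (AlgHom.id A C) π x = 0 ∧
      ∀ (A' : Type u) [CommRing A'] [Algebra A A'] (σ0 : R0 →ₐ[A] A'),
        Algebra.TensorProduct.map (AlgHom.id A C) σ0 x = 0 → ∃ σ : R1 →ₐ[A] A', σ.comp π = σ0 := by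
  classical
  obtain ⟨N, w, hw⟩ := Module.Finite.exists_fin (R := A) (M := C)
  let G : (Fin N → A) →ₗ[A] C := Fintype.linearCombination A w
  have hG : Function.Surjective G := by
    rw [← LinearMap.range_eq_top, Fintype.range_linearCombination, hw]
  obtain ⟨P, r, hr⟩ := Submodule.fg_iff_exists_fin_generating_family.mp
    (Module.FinitePresentation.fg_ker G hG)
  obtain ⟨a, ha⟩ := exists_coords hw x
  let S := MvPolynomial (Fin P) R0
  let rel : Fin N → S := fun i =>
    MvPolynomial.C (a i) - ∑ k, r k i • (MvPolynomial.X k : S)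
  let I : Ideal S := Ideal.span (Set.range rel)
  let π : R0 →ₐ[A] S ⧸ I := (Ideal.Quotient.mkₐ A I).comp (IsScalarTower.toAlgHom A R0 S)
  have : Algebra.FinitePresentation A S := .trans A R0 S
  refine ⟨S ⧸ I, inferInstance, inferInstance, π,
    Algebra.FinitePresentation.quotient (Submodule.fg_span (Set.finite_range rel)), ?_, ?_⟩
  · rw [ha, map_sum]
    simp only [Algebra.TensorProduct.map_tmul, AlgHom.id_apply]
    refine TensorProduct.sum_tmul_eq_zero_of_vanishesTrivially A ?_
    refine ⟨P, fun i k => r k i, fun k => Ideal.Quotient.mkₐ A I (MvPolynomial.X k), ?_, ?_⟩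
    · intro i
      simp only [← map_smul, ← map_sum]
      exact (Ideal.Quotient.mk_eq_mk_iff_sub_mem _ _).mpr (Ideal.subset_span ⟨i, rfl⟩)
    · intro k
      have hrk : r k ∈ LinearMap.ker G := hr ▸ Submodule.subset_span ⟨k, rfl⟩
      rw [LinearMap.mem_ker, Fintype.linearCombination_apply] at hrk
      exact hrk
  · intro A' _ _ σ0 hσ0
    rw [ha, map_sum] at hσ0
    simp only [Algebra.TensorProduct.map_tmul, AlgHom.id_apply] at hσ0
    obtain ⟨n, b, y, h1, h2⟩ := TensorProduct.vanishesTrivially_of_sum_tmul_eq_zero A hw hσ0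
    have hb : ∀ j, (fun i => b i j) ∈ Submodule.span A (Set.range r) := by
      intro j
      rw [hr, LinearMap.mem_ker, Fintype.linearCombination_apply]
      exact h2 j
    choose t ht using fun j => (Submodule.mem_span_range_iff_exists_fun A).mp (hb j)
    let Y : Fin P → A' := fun k => ∑ j, t j k • y j
    let τ : S →ₐ[A] A' :=
      { MvPolynomial.eval₂Hom σ0.toRingHom Y with
        commutes' := fun c => by
          simp [S, MvPolynomial.algebraMap_eq, IsScalarTower.algebraMap_apply A R0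
            (MvPolynomial (Fin P) R0)] }
    have hτC : ∀ c, τ (MvPolynomial.C c) = σ0 c := fun c => MvPolynomial.eval₂Hom_C _ _ c
    have hτX : ∀ k, τ (MvPolynomial.X k) = Y k := fun k => MvPolynomial.eval₂Hom_X' _ _ k
    have hτ : ∀ z ∈ I, τ z = 0 := by
      intro z hz
      refine (Ideal.span_le (I := RingHom.ker τ.toRingHom)).mpr ?_ hz
      rintro _ ⟨i, rfl⟩
      show τ (rel i) = 0
      simp only [rel, map_sub, map_sum, map_smul, hτC, hτX, Y, Finset.smul_sum, sub_eq_zero]
      refine (h1 i).trans ?_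
      rw [Finset.sum_comm]
      refine Finset.sum_congr rfl fun j _ => ?_
      have : b i j = ∑ k, t j k * r k i := by
        have := congrFun (ht j) i
        simpa using this.symm
      rw [this, Finset.sum_smul]
      exact Finset.sum_congr rfl fun k _ => by rw [mul_comm, mul_smul]
    exact ⟨Ideal.Quotient.liftₐ I τ hτ, AlgHom.ext fun c => hτC c⟩

variable (M : Model A B) (A' : Type u) [CommRing A'] [Algebra A A']

/-- The base change of the comparison map of a model. -/
noncomputable abbrev Model.bc : M.C ⊗[A] A' →ₐ[A] B ⊗[A] A' :=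
  Algebra.TensorProduct.map M.φ (AlgHom.id A A')

/-- The ideal of the base change generated by the elements of the model. -/
abbrev Model.ideal : Ideal (M.C ⊗[A] A') :=
  Ideal.span (Set.range fun g : M.s => (g : M.C) ⊗ₜ[A] (1 : A'))

theorem Model.bc_surj (g : M.s) (b : B ⊗[A] A') :
    ∃ (n : ℕ) (c : M.C ⊗[A] A'), M.bc A' c = M.bc A' ((g : M.C) ⊗ₜ[A] 1) ^ n * b := by
  induction b with
  | zero => exact ⟨0, 0, by simp⟩
  | tmul b a =>
    obtain ⟨n, c, hc⟩ := M.surj g g.2 b
    refine ⟨n, c ⊗ₜ a, ?_⟩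
    simp [hc, Algebra.TensorProduct.tmul_pow]
  | add x y hx hy =>
    obtain ⟨n, c, hc⟩ := hx
    obtain ⟨m, d, hd⟩ := hy
    refine ⟨n + m, ((g : M.C) ⊗ₜ[A] 1) ^ m * c + ((g : M.C) ⊗ₜ[A] 1) ^ n * d, ?_⟩
    rw [map_add, map_mul, map_mul, map_pow, map_pow, hc, hd]
    ring

theorem Model.bc_inj (g : M.s) (c : M.C ⊗[A] A') (hc : M.bc A' c = 0) :
    ∃ n : ℕ, ((g : M.C) ⊗ₜ[A] 1) ^ n * c = 0 := by
  let L := Localization.Away (g : M.C)
  let N := Localization.Away (M.φ g)
  let L' := Localization.Away ((g : M.C) ⊗ₜ[A] (1 : A'))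
  let θ : L →ₐ[A] N := IsLocalization.liftAlgHom (M := Submonoid.powers (g : M.C))
    (f := (IsScalarTower.toAlgHom A B N).comp M.φ) (by
      rintro ⟨_, n, rfl⟩
      simp only [AlgHom.comp_apply, IsScalarTower.coe_toAlgHom', map_pow]
      exact (IsLocalization.Away.algebraMap_isUnit (M.φ g)).pow n)
  have hθ : ∀ d, θ (algebraMap M.C L d) = algebraMap B N (M.φ d) := fun d =>
    IsLocalization.lift_eq _ d
  let Λ : L →ₐ[A] L' := IsLocalization.liftAlgHom (M := Submonoid.powers (g : M.C))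
    (f := (IsScalarTower.toAlgHom A (M.C ⊗[A] A') L').comp Algebra.TensorProduct.includeLeft) (by
      rintro ⟨_, n, rfl⟩
      simp only [AlgHom.comp_apply, IsScalarTower.coe_toAlgHom', map_pow]
      exact (IsLocalization.Away.algebraMap_isUnit ((g : M.C) ⊗ₜ[A] (1 : A'))).pow n)
  have hΛ : ∀ d, Λ (algebraMap M.C L d) = algebraMap (M.C ⊗[A] A') L' (d ⊗ₜ 1) := fun d =>
    IsLocalization.lift_eq _ d
  have hθi : Function.Injective θ := by
    rw [injective_iff_map_eq_zero]
    intro z hz
    obtain ⟨⟨d, ⟨_, k, rfl⟩⟩, hd⟩ := IsLocalization.surj (Submonoid.powers (g : M.C)) z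
    have h1 : algebraMap B N (M.φ d) = 0 := by rw [← hθ, ← hd, map_mul, hz, zero_mul]
    obtain ⟨⟨_, i, rfl⟩, hi⟩ :=
      (IsLocalization.map_eq_zero_iff (Submonoid.powers (M.φ g)) N _).mp h1
    obtain ⟨j, hj⟩ := M.inj g g.2 ((g : M.C) ^ i * d) (by rw [map_mul, map_pow]; exact hi)
    have h2 : algebraMap M.C L d = 0 :=
      (IsLocalization.map_eq_zero_iff (Submonoid.powers (g : M.C)) L _).mpr
        ⟨⟨_, j + i, rfl⟩, by simpa [pow_add, mul_assoc] using hj⟩
    exact ((IsLocalization.map_units L (⟨_, k, rfl⟩ : Submonoid.powers (g : M.C))).mul_left_eq_zero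
      ).mp (hd.trans h2)
  have hθs : Function.Surjective θ := by
    intro z
    obtain ⟨b, ⟨_, k, rfl⟩, rfl⟩ := IsLocalization.exists_mk'_eq (Submonoid.powers (M.φ g)) z
    obtain ⟨n, d, hd⟩ := M.surj g g.2 b
    refine ⟨IsLocalization.mk' L d (⟨(g : M.C) ^ (n + k), n + k, rfl⟩ :
      Submonoid.powers (g : M.C)), ?_⟩
    rw [IsLocalization.eq_mk'_iff_mul_eq]
    apply ((IsLocalization.Away.algebraMap_isUnit (S := N) (M.φ g)).pow n).mul_left_cancel
    have h1 := congrArg θ (IsLocalization.mk'_spec L d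
      (⟨(g : M.C) ^ (n + k), n + k, rfl⟩ : Submonoid.powers (g : M.C)))
    rw [map_mul, hθ, hθ, hd, map_mul, map_pow, map_pow, map_pow] at h1
    simp only [map_pow]
    linear_combination h1
  let e : L ≃ₐ[A] N := AlgEquiv.ofBijective θ ⟨hθi, hθs⟩
  let Ψ : B ⊗[A] A' →ₐ[A] L' := Algebra.TensorProduct.lift
    (Λ.comp (e.symm.toAlgHom.comp (IsScalarTower.toAlgHom A B N)))
    ((IsScalarTower.toAlgHom A (M.C ⊗[A] A') L').comp Algebra.TensorProduct.includeRight)
    fun _ _ => Commute.all _ _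
  have key : ∀ z, Ψ (M.bc A' z) = algebraMap (M.C ⊗[A] A') L' z := by
    intro z
    induction z with
    | zero => simp
    | add x y hx hy => simp [hx, hy]
    | tmul d a =>
      have : e.symm (algebraMap B N (M.φ d)) = algebraMap M.C L d := by
        rw [AlgEquiv.symm_apply_eq]; exact (hθ d).symm
      simp [Ψ, this, hΛ, ← map_mul]
  obtain ⟨⟨_, n, rfl⟩, hn⟩ := (IsLocalization.map_eq_zero_iff
    (Submonoid.powers ((g : M.C) ⊗ₜ[A] (1 : A'))) L' c).mp (by rw [← key, hc, map_zero])
  exact ⟨n, hn⟩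

theorem Model.bc_span : Ideal.span (Set.range fun g : M.s => M.bc A' ((g : M.C) ⊗ₜ[A] 1)) = ⊤ := by
  have h := congrArg (Ideal.map (Algebra.TensorProduct.includeLeft : B →ₐ[A] B ⊗[A] A'))
    M.span_eq_top
  rw [Ideal.map_span, Ideal.map_top, ← Set.image_comp] at h
  rw [← h]
  congr 1
  ext z
  simp

/-- The condition that the open `D(ε)` is finite over `A'`. -/
def FiniteAway (B : Type u) [CommRing B] [Algebra A B] (A' : Type u) [CommRing A'] [Algebra A A']
    (ε : B ⊗[A] A') : Prop :=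
  RingHom.Finite ((algebraMap (B ⊗[A] A') (Localization.Away ε)).comp
    (Algebra.TensorProduct.includeRight : A' →ₐ[A] B ⊗[A] A').toRingHom)

theorem finite_includeRight [Module.Finite A C] :
    RingHom.Finite (Algebra.TensorProduct.includeRight : A' →ₐ[A] C ⊗[A] A').toRingHom := by
  have h : RingHom.Finite (algebraMap A' (A' ⊗[A] C)) :=
    RingHom.finite_algebraMap.mpr inferInstance
  have := (RingHom.Finite.of_surjective (Algebra.TensorProduct.comm A A' C).toRingEquiv.toRingHom
    (Algebra.TensorProduct.comm A A' C).surjective).comp h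
  convert this using 1
  ext a
  simp

/-- An idempotent of the finite model inside the distinguished ideal gives a finite piece. -/
theorem Model.finiteAway {e : M.C ⊗[A] A'} (he : IsIdempotentElem e) (hmem : e ∈ M.ideal A') :
    FiniteAway B A' (M.bc A' e) := by
  classical
  let q := (algebraMap (B ⊗[A] A') (Localization.Away (M.bc A' e))).comp (M.bc A').toRingHom
  have hq : Function.Surjective q := by
    have h1 : algebraMap (B ⊗[A] A') (Localization.Away (M.bc A' e)) (M.bc A' e) = 1 :=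
      IsIdempotentElem.iff_eq_one_of_isUnit (IsLocalization.Away.algebraMap_isUnit (M.bc A' e))
        |>.mp ((he.map (M.bc A')).map _)
    intro z
    obtain ⟨b, ⟨_, k, rfl⟩, rfl⟩ :=
      IsLocalization.exists_mk'_eq (Submonoid.powers (M.bc A' e)) z
    choose n c hc using fun g => M.bc_surj A' g b
    let m := Finset.univ.sup n
    obtain ⟨K, hK⟩ := Ideal.mem_radical_iff.mp (show e ∈ (Ideal.span (Set.range
      fun g : M.s => ((g : M.C) ⊗ₜ[A] (1 : A')) ^ m)).radical from Ideal.span_le.mpr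
        (by rintro _ ⟨g, rfl⟩; exact ⟨m, Ideal.subset_span ⟨g, rfl⟩⟩) hmem)
    obtain ⟨t, ht⟩ := (Submodule.mem_span_range_iff_exists_fun _).mp
      (Ideal.mul_mem_left _ e hK)
    refine ⟨∑ g, t g * (((g : M.C) ⊗ₜ[A] 1) ^ (m - n g) * c g), ?_⟩
    have h2 : M.bc A' (∑ g, t g * (((g : M.C) ⊗ₜ[A] 1) ^ (m - n g) * c g)) =
        M.bc A' (e * e ^ K) * b := by
      rw [← ht, map_sum, map_sum, Finset.sum_mul]
      refine Finset.sum_congr rfl fun g _ => ?_
      have : n g ≤ m := Finset.le_sup (Finset.mem_univ g)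
      rw [smul_eq_mul, map_mul, map_mul, map_mul, hc, ← mul_assoc (M.bc A' (_ ^ _)), map_pow,
        map_pow, ← pow_add, Nat.sub_add_cancel this, mul_assoc]
    rw [IsLocalization.eq_mk'_iff_mul_eq]
    show algebraMap _ _ (M.bc A' _) * algebraMap _ _ _ = _
    rw [h2, map_mul, map_mul, map_mul, map_pow, map_pow, map_pow, h1]
    simp
  have := (RingHom.Finite.of_surjective q hq).comp (finite_includeRight (C := M.C) A')
  rw [show q.comp (Algebra.TensorProduct.includeRight : A' →ₐ[A] M.C ⊗[A] A').toRingHom =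
    (algebraMap (B ⊗[A] A') (Localization.Away (M.bc A' e))).comp
      (Algebra.TensorProduct.includeRight : A' →ₐ[A] B ⊗[A] A').toRingHom by ext a; simp [q]] at this
  exact this

/-- A finite piece comes from an idempotent of the finite model inside the distinguished ideal. -/
theorem Model.exists_idempotent {ε : B ⊗[A] A'} (hε : IsIdempotentElem ε)
    (hfin : FiniteAway B A' ε) :
    ∃ e, IsIdempotentElem e ∧ e ∈ M.ideal A' ∧ M.bc A' e = ε := by
  classical
  let Q := Localization.Away ε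
  let q := (algebraMap (B ⊗[A] A') Q).comp (M.bc A').toRingHom
  let G : M.s → M.C ⊗[A] A' := fun g => (g : M.C) ⊗ₜ[A] 1
  choose n c hc using fun g => M.bc_surj A' g ε
  let m := Finset.univ.sup n + 1
  let d : M.s → M.C ⊗[A] A' := fun g => G g ^ (m - n g) * c g
  have hnm : ∀ g, n g < m := fun g => Nat.lt_succ_of_le (Finset.le_sup (Finset.mem_univ g))
  have hd : ∀ g, M.bc A' (d g) = M.bc A' (G g) ^ m * ε := by
    intro g
    rw [map_mul, map_pow, hc, ← mul_assoc, ← pow_add, Nat.sub_add_cancel (hnm g).le]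
  have hdI : ∀ g, d g ∈ M.ideal A' := fun g => Ideal.mul_mem_right _ _
    (Ideal.pow_mem_of_mem (M.ideal A') (Ideal.subset_span ⟨g, rfl⟩) _ (Nat.sub_pos_of_lt (hnm g)))
  have htop : Ideal.span (Set.range fun g => G g ^ m) ⊔ RingHom.ker q = ⊤ := by
    by_contra h
    obtain ⟨P, hP, hle⟩ := Ideal.exists_le_maximal _ h
    have hqf : q.Finite := by
      refine RingHom.Finite.of_comp_finite
        (f := (Algebra.TensorProduct.includeRight : A' →ₐ[A] M.C ⊗[A] A').toRingHom) ?_
      rw [show q.comp (Algebra.TensorProduct.includeRight : A' →ₐ[A] M.C ⊗[A] A').toRingHom =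
        (algebraMap (B ⊗[A] A') Q).comp
          (Algebra.TensorProduct.includeRight : A' →ₐ[A] B ⊗[A] A').toRingHom by ext a; simp [q]]
      exact hfin
    let _ := q.toAlgebra
    have : Module.Finite (M.C ⊗[A] A') Q := RingHom.finite_algebraMap.mp hqf
    obtain ⟨R, hR, hRP⟩ := Ideal.exists_ideal_over_maximal_of_isIntegral (S := Q) P
      (le_sup_right.trans hle)
    apply hR.ne_top
    rw [← top_le_iff]
    have h1 : Ideal.span (Set.range fun g => algebraMap (B ⊗[A] A') Q (M.bc A' (G g) ^ m)) = ⊤ := by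
      have := congrArg (Ideal.map (algebraMap (B ⊗[A] A') Q))
        (Ideal.span_pow_eq_top _ (M.bc_span A') m)
      rw [Ideal.map_span, Ideal.map_top, ← Set.range_comp, ← Set.range_comp] at this
      exact this
    rw [← h1, Ideal.span_le]
    rintro _ ⟨g, rfl⟩
    have h2 : G g ^ m ∈ P := hle (Ideal.mem_sup_left (Ideal.subset_span ⟨g, rfl⟩))
    rw [← hRP, Ideal.mem_comap] at h2
    show algebraMap (B ⊗[A] A') Q (M.bc A' (G g) ^ m) ∈ R
    rw [← map_pow]
    exact h2
  obtain ⟨u, hu, l, hl, hul⟩ := Submodule.mem_sup.mp (htop.symm ▸ Submodule.mem_top :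
    (1 : M.C ⊗[A] A') ∈ Ideal.span (Set.range fun g => G g ^ m) ⊔ RingHom.ker q)
  obtain ⟨a, ha⟩ := (Submodule.mem_span_range_iff_exists_fun _).mp hu
  have hlε : M.bc A' l * ε = 0 := by
    have hl' : algebraMap (B ⊗[A] A') Q (M.bc A' l) = 0 := hl
    obtain ⟨⟨_, k, rfl⟩, hk⟩ := (IsLocalization.map_eq_zero_iff (Submonoid.powers ε) Q _).mp hl'
    calc M.bc A' l * ε = M.bc A' l * ε ^ (k + 1) := by rw [hε.pow_succ_eq]
      _ = (ε ^ k * M.bc A' l) * ε := by rw [pow_succ]; ring
      _ = 0 := by rw [show ε ^ k * M.bc A' l = 0 from hk, zero_mul]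
  let x := ∑ g, a g * d g
  have hxI : x ∈ M.ideal A' := Ideal.sum_mem _ fun g _ => Ideal.mul_mem_left _ _ (hdI g)
  have hx : M.bc A' x = ε := by
    have h1 : M.bc A' x = M.bc A' u * ε := by
      simp only [x, ← ha, map_sum, Finset.sum_mul, smul_eq_mul]
      refine Finset.sum_congr rfl fun g _ => ?_
      rw [map_mul (M.bc A') (a g) (d g), hd, map_mul, map_pow]
      ring
    rw [h1, show u = 1 - l by rw [← hul, add_sub_cancel_right], map_sub, map_one, sub_mul,
      one_mul, hlε, sub_zero]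
  choose j hj using fun g => M.bc_inj A' g (x * x - x)
    (by rw [map_sub, map_mul, hx, hε.eq, sub_self])
  let J := Finset.univ.sup j
  obtain ⟨K, hK⟩ := Ideal.mem_radical_iff.mp (show x ∈ (Ideal.span (Set.range
    fun g => G g ^ J)).radical from Ideal.span_le.mpr
      (by rintro _ ⟨g, rfl⟩; exact ⟨J, Ideal.subset_span ⟨g, rfl⟩⟩) hxI)
  have hzero : x ^ K * (x * x - x) = 0 := by
    obtain ⟨t, ht⟩ := (Submodule.mem_span_range_iff_exists_fun _).mp hK
    rw [← ht, Finset.sum_mul]
    refine Finset.sum_eq_zero fun g _ => ?_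
    have hle : j g ≤ J := Finset.le_sup (Finset.mem_univ g)
    have h1 : G g ^ J * (x * x - x) = 0 := by
      rw [← Nat.sub_add_cancel hle, pow_add, mul_assoc, hj g, mul_zero]
    rw [smul_eq_mul, mul_assoc, h1, mul_zero]
  have hsucc : x ^ (K + 1) * x = x ^ (K + 1) := by
    linear_combination hzero
  have hall : ∀ i, x ^ (K + 1) * x ^ i = x ^ (K + 1) := by
    intro i
    induction i with
    | zero => simp
    | succ i ih => rw [pow_succ x i, ← mul_assoc, ih, hsucc]
  refine ⟨x ^ (K + 1), hall (K + 1), Ideal.pow_mem_of_mem _ hxI _ (Nat.succ_pos K), ?_⟩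
  rw [map_pow, hx, hε.pow_succ_eq]

variable (A B)

/-- The universal finite piece of a quasi-finite algebra of finite presentation. -/
theorem exists_universal [Algebra.FinitePresentation A B] [Algebra.QuasiFinite A B] :
    ∃ (R : Type u) (_ : CommRing R) (_ : Algebra A R) (εu : B ⊗[A] R),
      Algebra.FinitePresentation A R ∧ FiniteAway B R εu ∧
      ∀ (A' : Type u) [CommRing A'] [Algebra A A'] (ε : B ⊗[A] A'), IsIdempotentElem ε →
        FiniteAway B A' ε →
        ∃ σ : R →ₐ[A] A', Algebra.TensorProduct.map (AlgHom.id A B) σ εu = ε := by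
  classical
  obtain ⟨M⟩ := nonempty_model A B
  obtain ⟨N, w, hw⟩ := Module.Finite.exists_fin (R := A) (M := M.C)
  let R0 := MvPolynomial (Option M.s × Fin N) A
  let E : M.C ⊗[A] R0 := ∑ i, w i ⊗ₜ MvPolynomial.X (none, i)
  let α : M.s → M.C ⊗[A] R0 := fun g => ∑ i, w i ⊗ₜ MvPolynomial.X (some g, i)
  obtain ⟨R1, _, _, π1, _, hπ1, hext1⟩ := exists_kill (C := M.C) R0 (E * E - E)
  let mm := fun (T : Type u) [CommRing T] [Algebra A T] (f : R0 →ₐ[A] T) =>
    Algebra.TensorProduct.map (AlgHom.id A M.C) f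
  obtain ⟨R, _, _, π2, hfp, hπ2, hext2⟩ := exists_kill (C := M.C) R1
    (mm R1 π1 (E - ∑ g : M.s, ((g : M.C) ⊗ₜ[A] 1) * α g))
  let π := π2.comp π1
  have hcomp : ∀ (S T : Type u) [CommRing S] [CommRing T] [Algebra A S] [Algebra A T]
      (f : R0 →ₐ[A] S) (g : S →ₐ[A] T) (z : M.C ⊗[A] R0),
      Algebra.TensorProduct.map (AlgHom.id A M.C) g (mm S f z) = mm T (g.comp f) z := by
    intro S T _ _ _ _ f g z
    induction z with
    | zero => simp
    | add x y hx hy => simp [hx, hy]
    | tmul d a => simp [mm]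
  let e := mm R π E
  have heq : e * e = e := by
    rw [← sub_eq_zero, ← map_mul, ← map_sub, ← hcomp R1 R π1 π2, hπ1, map_zero]
  have hmem : e ∈ M.ideal R := by
    have h : mm R π (E - ∑ g : M.s, ((g : M.C) ⊗ₜ[A] 1) * α g) = 0 := by rw [← hcomp R1 R π1 π2]; exact hπ2
    rw [map_sub, sub_eq_zero] at h
    rw [show e = mm R π E from rfl, h, map_sum]
    refine Ideal.sum_mem _ fun g _ => ?_
    rw [map_mul]
    refine Ideal.mul_mem_right _ _ (Ideal.subset_span ⟨g, ?_⟩)
    simp [mm]
  refine ⟨R, inferInstance, inferInstance, M.bc R e, hfp, M.finiteAway R heq hmem, ?_⟩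
  intro A' _ _ ε hε hfin
  obtain ⟨e', he', hmem', rfl⟩ := M.exists_idempotent A' hε hfin
  obtain ⟨t, ht⟩ := (Submodule.mem_span_range_iff_exists_fun _).mp hmem'
  choose a ha using fun z : M.C ⊗[A] A' => exists_coords hw z
  let val : Option M.s × Fin N → A' := fun p =>
    match p.1 with
    | none => a e' p.2
    | some g => a (t g) p.2
  let σ0 : R0 →ₐ[A] A' := MvPolynomial.aeval val
  have hE : mm A' σ0 E = e' := by
    simp only [mm, E, map_sum, Algebra.TensorProduct.map_tmul, AlgHom.id_apply]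
    refine Eq.trans (Finset.sum_congr rfl fun i _ => ?_) (ha e').symm
    exact congrArg _ (MvPolynomial.aeval_X val (none, i))
  have hα : ∀ g, mm A' σ0 (α g) = t g := by
    intro g
    simp only [mm, α, map_sum, Algebra.TensorProduct.map_tmul, AlgHom.id_apply]
    refine Eq.trans (Finset.sum_congr rfl fun i _ => ?_) (ha (t g)).symm
    exact congrArg _ (MvPolynomial.aeval_X val (some g, i))
  obtain ⟨σ1, hσ1⟩ := hext1 A' σ0 (by
    show mm A' σ0 (E * E - E) = 0
    rw [map_sub, map_mul, hE, he'.eq, sub_self])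
  obtain ⟨σ, hσ⟩ := hext2 A' σ1 (by
    rw [hcomp R1 A' π1 σ1, hσ1, map_sub, hE, map_sum, sub_eq_zero, ← ht]
    refine Finset.sum_congr rfl fun g _ => ?_
    rw [map_mul, hα, smul_eq_mul, mul_comm]
    congr 1
    simp [mm])
  refine ⟨σ, ?_⟩
  have h1 : Algebra.TensorProduct.map (AlgHom.id A M.C) σ e = e' := by
    rw [hcomp R A' π σ, show σ.comp π = σ0 by rw [← AlgHom.comp_assoc, hσ, hσ1], hE]
  rw [← h1]
  exact AlgHom.congr_fun (show (Algebra.TensorProduct.map (AlgHom.id A B) σ).comp (M.bc R) =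
    (M.bc A').comp (Algebra.TensorProduct.map (AlgHom.id A M.C) σ) by ext <;> simp) e

end UFinLib
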